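import Mathlib

/-!
# Generic finiteness: ring-level lemma (Stacks 00QB-like)
-/

set_option autoImplicit false
universe u

namespace Groth.Agent.H5.GF

open Polynomial

/-- Integrality can be checked modulo an ideal of nilpotents. -/
lemma isIntegral_of_isIntegral_quotient_of_le_nilradical {A B : Type*} [CommRing A] [CommRing B]
    [Algebra A B] (I : Ideal A) (hI : I ≤ nilradical A)
    (h : Algebra.IsIntegral A (B ⧸ I.map (algebraMap A B))) : Algebra.IsIntegral A B := by
  refine ⟨fun b => ?_⟩
  obtain ⟨P, hP, hPb⟩ := h.isIntegral (Ideal.Quotient.mk (I.map (algebraMap A B)) b)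
  have h1 : Polynomial.aeval b P ∈ I.map (algebraMap A B) := by
    rw [← Ideal.Quotient.eq_zero_iff_mem, ← Ideal.Quotient.mkₐ_eq_mk A, ← Polynomial.aeval_algHom_apply]
    exact hPb
  have h2 : I.map (algebraMap A B) ≤ nilradical B := by
    rw [Ideal.map_le_iff_le_comap]
    intro a ha
    have : IsNilpotent a := mem_nilradical.mp (hI ha)
    exact mem_nilradical.mpr (this.map (algebraMap A B))
  obtain ⟨N, hN⟩ := mem_nilradical.mp (h2 h1)
  exact ⟨P ^ N, hP.pow N, by rw [← Polynomial.aeval_def, map_pow, hN]⟩

section fiber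

variable {R S : Type*} [CommRing R] [CommRing S] [Algebra R S] [Algebra.FiniteType R S]
  (p : Ideal R) [p.IsPrime]

/-- A finite-type algebra with finitely many primes over `p` has finite fibre at `p`. -/
lemma finite_fiber_of_finite_primesOver
    (H : (PrimeSpectrum.comap (algebraMap R S) ⁻¹' {⟨p, inferInstance⟩}).Finite) :
    Module.Finite p.ResidueField (p.Fiber S) := by
  rw [Module.finite_iff_isArtinianRing, isArtinianRing_iff_isNoetherianRing_krullDimLE_zero]
  have : IsJacobsonRing (p.Fiber S) := isJacobsonRing_of_finiteType (A := p.ResidueField)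
  have : Finite (PrimeSpectrum (p.Fiber S)) :=
    (PrimeSpectrum.preimageEquivFiber R S ⟨p, ‹_›⟩).finite_iff.mp H
  exact ⟨Algebra.FiniteType.isNoetherianRing p.ResidueField _,
    (PrimeSpectrum.discreteTopology_iff_finite_and_krullDimLE_zero.mp inferInstance).right⟩

end fiber

section main

variable {R S : Type u} [CommRing R] [CommRing S] [Algebra R S] [Algebra.FiniteType R S]
  (p : Ideal R) [p.IsPrime]

lemma maximalIdeal_le_nilradical_of_mem_minimalPrimes (hp : p ∈ minimalPrimes R) :
    IsLocalRing.maximalIdeal (Localization.AtPrime p) ≤ nilradical (Localization.AtPrime p) := by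
  have := IsLocalization.AtPrime.radical_map_of_mem_minimalPrimes (A := Localization.AtPrime p)
    p ⊥ hp
  rw [Ideal.map_bot, IsLocalization.AtPrime.map_eq_maximalIdeal p (Localization.AtPrime p)] at this
  rw [← this]
  exact le_of_eq rfl

attribute [local instance] Algebra.TensorProduct.rightAlgebra in
lemma isIntegral_localization (hp : p ∈ minimalPrimes R)
    (H : (PrimeSpectrum.comap (algebraMap R S) ⁻¹' {⟨p, inferInstance⟩}).Finite) :
    Algebra.IsIntegral (Localization.AtPrime p)
      (Localization (Algebra.algebraMapSubmonoid S p.primeCompl)) := by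
  apply isIntegral_of_isIntegral_quotient_of_le_nilradical _
    (maximalIdeal_le_nilradical_of_mem_minimalPrimes p hp)
  have hfin := finite_fiber_of_finite_primesOver p H
  refine ⟨fun y => ?_⟩
  let e := Ideal.Fiber.algEquivQuotient (p := p) (S := S)
  obtain ⟨z, rfl⟩ := e.surjective y
  have hz : IsIntegral p.ResidueField z := Algebra.IsIntegral.isIntegral z
  have hz' : IsIntegral (Localization.AtPrime p) z := isIntegral_trans z hz
  refine IsIntegral.map_of_comp_eq (RingHom.id _) (e.toAlgHom.toRingHom) ?_ hz'
  apply IsLocalization.ringHom_ext p.primeCompl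
  ext r
  simp only [RingHom.comp_apply, RingHom.id_apply]
  rw [← IsScalarTower.algebraMap_apply R (Localization.AtPrime p),
    ← IsScalarTower.algebraMap_apply R (Localization.AtPrime p),
    IsScalarTower.algebraMap_apply R S (p.Fiber S)]
  erw [e.commutes]
  rw [← IsScalarTower.algebraMap_apply]

lemma exists_smul_isIntegral (hp : p ∈ minimalPrimes R)
    (H : (PrimeSpectrum.comap (algebraMap R S) ⁻¹' {⟨p, inferInstance⟩}).Finite) (x : S) :
    ∃ m ∉ p, IsIntegral R (m • x) := by
  have hint := isIntegral_localization p hp H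
  have h1 : IsIntegral (Localization.AtPrime p)
      (algebraMap S (Localization (Algebra.algebraMapSubmonoid S p.primeCompl)) x) :=
    hint.isIntegral _
  obtain ⟨m₁, hm₁⟩ := IsIntegral.exists_multiple_integral_of_isLocalization p.primeCompl
    (Rₘ := Localization.AtPrime p) _ h1
  have h2 : IsIntegral R
      (algebraMap S (Localization (Algebra.algebraMapSubmonoid S p.primeCompl)) (m₁.1 • x)) := by
    rw [Algebra.smul_def, map_mul, ← IsScalarTower.algebraMap_apply, ← Algebra.smul_def]
    exact hm₁
  obtain ⟨m₂, hm₂, h3⟩ := IsLocalization.exists_isIntegral_smul_of_isIntegral_map p.primeCompl h2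
  exact ⟨m₂ * m₁.1, p.primeCompl.mul_mem hm₂ m₁.2, by rwa [mul_smul]⟩

/-- **Generic finiteness, ring form.** If `R → S` is of finite type and only finitely many primes
of `S` lie over the minimal prime `p` of `R`, then `S[1/g]` is finite over `R[1/g]` for some
`g ∉ p`. -/
theorem exists_finite_away (hp : p ∈ minimalPrimes R)
    (H : (PrimeSpectrum.comap (algebraMap R S) ⁻¹' {⟨p, inferInstance⟩}).Finite) :
    ∃ g ∉ p, ∀ (R' S' : Type u) [CommRing R'] [CommRing S'] [Algebra R R'] [Algebra S S']
      [IsLocalization.Away g R'] [IsLocalization.Away (algebraMap R S g) S'] (φ' : R' →+* S'),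
      φ'.comp (algebraMap R R') = (algebraMap S S').comp (algebraMap R S) → φ'.Finite := by
  classical
  obtain ⟨s, hs⟩ := (Algebra.FiniteType.out : (⊤ : Subalgebra R S).FG)
  choose m hm hint using fun x : S => exists_smul_isIntegral p hp H x
  refine ⟨∏ x ∈ s, m x, ?_, ?_⟩
  · rw [Ideal.IsPrime.prod_mem_iff]
    rintro ⟨x, -, hx⟩
    exact hm x hx
  intro R' S' _ _ _ _ _ _ φ' hφ'
  letI := φ'.toAlgebra
  letI : Algebra R S' := ((algebraMap S S').comp (algebraMap R S)).toAlgebra
  haveI : IsScalarTower R S S' := IsScalarTower.of_algebraMap_eq' rfl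
  haveI : IsScalarTower R R' S' := IsScalarTower.of_algebraMap_eq' hφ'.symm
  have hunit : ∀ x ∈ s, IsUnit (algebraMap R R' (m x)) := fun x hx =>
    isUnit_of_dvd_unit (map_dvd _ (Finset.dvd_prod_of_mem m hx))
      (IsLocalization.Away.algebraMap_isUnit (∏ x ∈ s, m x))
  have hgen : ∀ x ∈ s, IsIntegral R' (algebraMap S S' x) := by
    intro x hx
    have h1 : IsIntegral R (algebraMap S S' (m x • x)) :=
      (hint x).map (IsScalarTower.toAlgHom R S S')
    have h2 : IsIntegral R' (algebraMap S S' (m x • x)) := h1.tower_top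
    have h3 : algebraMap S S' (m x • x) = algebraMap R R' (m x) • algebraMap S S' x := by
      rw [Algebra.smul_def, map_mul, ← IsScalarTower.algebraMap_apply, Algebra.smul_def,
        ← IsScalarTower.algebraMap_apply]
    rw [h3] at h2
    obtain ⟨u, hu⟩ := hunit x hx
    have : algebraMap S S' x = (↑u⁻¹ : R') • (algebraMap R R' (m x) • algebraMap S S' x) := by
      rw [← hu, smul_smul, Units.inv_mul, one_smul]
    rw [this]
    exact h2.smul _
  have himg : ∀ a : S, IsIntegral R' (algebraMap S S' a) := by
    intro a
    have ha : a ∈ Algebra.adjoin R (s : Set S) := by rw [hs]; trivial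
    induction ha using Algebra.adjoin_induction with
    | mem x hx => exact hgen x hx
    | algebraMap r =>
      rw [← IsScalarTower.algebraMap_apply, IsScalarTower.algebraMap_apply R R' S']
      exact isIntegral_algebraMap
    | add x y _ _ hx hy => rw [map_add]; exact hx.add hy
    | mul x y _ _ hx hy => rw [map_mul]; exact hx.mul hy
  have hint' : φ'.IsIntegral := by
    intro y
    change IsIntegral R' y
    obtain ⟨n, a, hya⟩ := IsLocalization.Away.surj (algebraMap R S (∏ x ∈ s, m x)) y
    obtain ⟨u, hu⟩ := IsLocalization.Away.algebraMap_isUnit (S := R') (∏ x ∈ s, m x)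
    have h4 : algebraMap S S' (algebraMap R S (∏ x ∈ s, m x)) = algebraMap R' S' (u : R') := by
      rw [hu, ← IsScalarTower.algebraMap_apply, ← IsScalarTower.algebraMap_apply]
    have : y = algebraMap R' S' ((↑u⁻¹ : R') ^ n) * algebraMap S S' a := by
      rw [← hya, h4, ← map_pow, mul_comm y, ← mul_assoc, ← map_mul, ← mul_pow, Units.inv_mul,
        one_pow, map_one, one_mul]
    rw [this]
    exact isIntegral_algebraMap.mul (himg a)
  refine RingHom.IsIntegral.to_finite hint' ?_
  change Algebra.FiniteType R' S'
  have : Algebra.FiniteType S S' :=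
    IsLocalization.finiteType_of_monoid_fg (Submonoid.powers (algebraMap R S (∏ x ∈ s, m x))) S'
  have : Algebra.FiniteType R S' := Algebra.FiniteType.trans ‹Algebra.FiniteType R S› this
  exact Algebra.FiniteType.of_restrictScalars_finiteType R R' S'

end main

end Groth.Agent.H5.GF
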