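import Mathlib
import Groth.Agent.Lib.Helper5.GF.GF1

set_option autoImplicit false
universe u

open CategoryTheory AlgebraicGeometry

namespace Groth.Agent.H5.GF

variable {X Y : Scheme.{u}}

/-- The prime of an affine open corresponding to the generic point of an irreducible component
is a minimal prime. -/
lemma primeIdealOf_mem_minimalPrimes {V : Y.Opens} (hV : IsAffineOpen V) (η : Y) (hηV : η ∈ V)
    (hη : closure {η} ∈ irreducibleComponents (Y : Type u)) :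
    (hV.primeIdealOf ⟨η, hηV⟩).asIdeal ∈ minimalPrimes Γ(Y, V) := by
  rw [minimalPrimes_eq_minimals]
  refine ⟨(hV.primeIdealOf ⟨η, hηV⟩).isPrime, ?_⟩
  intro q hq hle
  let q' : PrimeSpectrum Γ(Y, V) := ⟨q, hq⟩
  have h1 : q' ⤳ hV.primeIdealOf ⟨η, hηV⟩ := (PrimeSpectrum.le_iff_specializes _ _).mp hle
  have h2 : hV.fromSpec q' ⤳ η := by
    have := h1.map hV.fromSpec.continuous
    rwa [hV.fromSpec_primeIdealOf] at this
  -- closure {η} ⊆ closure {y}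
  have h3 : closure {η} ⊆ closure {hV.fromSpec q'} := h2.closure_subset ..
  have h4 : closure {hV.fromSpec q'} ≤ closure {η} :=
    hη.2 (isIrreducible_singleton.closure) h3
  have h5 : η ⤳ hV.fromSpec q' := by
    rw [specializes_iff_closure_subset]; exact h4
  have h6 : hV.fromSpec q' = η := (h2.antisymm h5).eq
  have h7 : q' = hV.primeIdealOf ⟨η, hηV⟩ := by
    apply hV.fromSpec.isOpenEmbedding.injective
    rw [h6, hV.fromSpec_primeIdealOf]
  have := congrArg PrimeSpectrum.asIdeal h7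
  exact this.ge


set_option backward.isDefEq.respectTransparency.types false in
lemma isFinite_resLE_iff (f : X ⟶ Y) (U : X.Opens) (V : Y.Opens) (hU : IsAffineOpen U)
    (hV : IsAffineOpen V) (e : U ≤ f ⁻¹ᵁ V) :
    IsFinite (f.resLE V U e) ↔ (f.appLE V U e).hom.Finite := by
  haveI : IsAffine V.toScheme := hV
  haveI : IsAffine U.toScheme := hU
  rw [HasAffineProperty.iff_of_isAffine (P := @IsFinite), and_iff_right (by infer_instance)]
  exact RingHom.finite_respectsIso.arrow_mk_iso_iff (arrowResLEAppIso f V U e)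

lemma mem_basicOpen_iff_notMem_primeIdealOf {V : Y.Opens} (hV : IsAffineOpen V) (η : Y)
    (hηV : η ∈ V) (g : Γ(Y, V)) :
    η ∈ Y.basicOpen g ↔ g ∉ (hV.primeIdealOf ⟨η, hηV⟩).asIdeal := by
  have h1 : hV.primeIdealOf ⟨η, hηV⟩ ∈ hV.fromSpec ⁻¹ᵁ Y.basicOpen g ↔ η ∈ Y.basicOpen g := by
    change hV.fromSpec (hV.primeIdealOf ⟨η, hηV⟩) ∈ Y.basicOpen g ↔ _
    rw [hV.fromSpec_primeIdealOf]
  rw [← h1, hV.fromSpec_preimage_basicOpen]
  rfl

/-- **Generic finiteness, local form.** -/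
theorem exists_isFinite_resLE (f : X ⟶ Y) [LocallyOfFiniteType f]
    (η : Y) (hη : closure {η} ∈ irreducibleComponents (Y : Type u))
    {V₀ : Y.Opens} (hV₀ : IsAffineOpen V₀) (hηV : η ∈ V₀) {A : X.Opens} (hA : IsAffineOpen A)
    (e : A ≤ f ⁻¹ᵁ V₀) (hfin : ((A : Set X) ∩ f ⁻¹' {η}).Finite) :
    ∃ g : Γ(Y, V₀), η ∈ Y.basicOpen g ∧
      IsFinite (f.resLE (Y.basicOpen g) (X.basicOpen (f.appLE V₀ A e g))
        (by rw [Scheme.basicOpen_appLE]; exact inf_le_right)) := by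
  let φ : Γ(Y, V₀) →+* Γ(X, A) := (f.appLE V₀ A e).hom
  letI : Algebra Γ(Y, V₀) Γ(X, A) := φ.toAlgebra
  haveI : Algebra.FiniteType Γ(Y, V₀) Γ(X, A) := f.finiteType_appLE hV₀ hA e
  let p := hV₀.primeIdealOf ⟨η, hηV⟩
  have hp : p.asIdeal ∈ minimalPrimes Γ(Y, V₀) := primeIdealOf_mem_minimalPrimes hV₀ η hηV hη
  have H : (PrimeSpectrum.comap (algebraMap Γ(Y, V₀) Γ(X, A)) ⁻¹' {⟨p.asIdeal, inferInstance⟩}).Finite := by
    refine Set.Finite.subset (hfin.preimage (f := hA.fromSpec) hA.fromSpec.isOpenEmbedding.injective.injOn) ?_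
    intro q hq
    have hq' : Spec.map (f.appLE V₀ A e) q = p := hq
    refine ⟨?_, ?_⟩
    · have : hA.fromSpec q ∈ Set.range hA.fromSpec := ⟨q, rfl⟩
      rwa [hA.range_fromSpec] at this
    · change f (hA.fromSpec q) = η
      rw [← Scheme.Hom.comp_apply, ← IsAffineOpen.SpecMap_appLE_fromSpec f hV₀ hA e,
        Scheme.Hom.comp_apply, hq', hV₀.fromSpec_primeIdealOf]
  obtain ⟨g, hg, hfin'⟩ := exists_finite_away p.asIdeal hp H
  refine ⟨g, (mem_basicOpen_iff_notMem_primeIdealOf hV₀ η hηV g).mpr hg, ?_⟩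
  rw [isFinite_resLE_iff f _ _ (hA.basicOpen _) (hV₀.basicOpen _)]
  haveI := hV₀.isLocalization_basicOpen g
  haveI : IsLocalization.Away (algebraMap Γ(Y, V₀) Γ(X, A) g) Γ(X, X.basicOpen (f.appLE V₀ A e g)) :=
    hA.isLocalization_basicOpen (f.appLE V₀ A e g)
  apply hfin'
  rw [RingHom.algebraMap_toAlgebra, RingHom.algebraMap_toAlgebra, RingHom.algebraMap_toAlgebra,
    ← CommRingCat.hom_comp, ← CommRingCat.hom_comp, Scheme.Hom.appLE_map, Scheme.Hom.map_appLE]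


/-- Ring-level: if the minimal prime `p` is not in the image of `V(I)`, some `g ∉ p` maps into `I`. -/
lemma exists_notMem_of_forall_comap_ne {R S : Type*} [CommRing R] [CommRing S] (φ : R →+* S)
    (I : Ideal S) (p : Ideal R) (hp : p ∈ minimalPrimes R)
    (h : ∀ q : Ideal S, q.IsPrime → I ≤ q → q.comap φ ≠ p) : ∃ g ∉ p, φ g ∈ I := by
  by_contra hcon
  push Not at hcon
  have hK : I.comap φ ≤ p := fun g hg => by
    by_contra hgp
    exact hcon g hgp hg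
  have hp' : p ∈ (I.comap φ).minimalPrimes := by
    rw [minimalPrimes_eq_minimals] at hp
    exact ⟨⟨hp.1, hK⟩, fun q hq hle => hp.2 hq.1 hle⟩
  obtain ⟨q, hq, hIq, hqp⟩ := Ideal.exists_comap_eq_of_mem_minimalPrimes φ p hp'
  exact h q hq hIq hqp

/-- Removing a closed set not meeting the fibre over a generic point. -/
theorem exists_basicOpen_disjoint (f : X ⟶ Y)
    (η : Y) (hη : closure {η} ∈ irreducibleComponents (Y : Type u))
    {V₀ : Y.Opens} (hV₀ : IsAffineOpen V₀) (hηV : η ∈ V₀) {W : X.Opens} (hW : IsAffineOpen W)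
    (e : W ≤ f ⁻¹ᵁ V₀) (Z : Set X) (hZ : IsClosed Z) (hZF : ∀ x ∈ Z ∩ W, f x ≠ η) :
    ∃ g : Γ(Y, V₀), η ∈ Y.basicOpen g ∧ ∀ x ∈ Z ∩ W, f x ∉ Y.basicOpen g := by
  let φ : Γ(Y, V₀) →+* Γ(X, W) := (f.appLE V₀ W e).hom
  let p := hV₀.primeIdealOf ⟨η, hηV⟩
  have hp : p.asIdeal ∈ minimalPrimes Γ(Y, V₀) := primeIdealOf_mem_minimalPrimes hV₀ η hηV hη
  obtain ⟨I, hI⟩ := (PrimeSpectrum.isClosed_iff_zeroLocus_ideal _).mp
    (hZ.preimage hW.fromSpec.continuous)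
  have key : ∀ q : PrimeSpectrum Γ(X, W), f (hW.fromSpec q) = hV₀.fromSpec (Spec.map (f.appLE V₀ W e) q) := by
    intro q
    rw [← Scheme.Hom.comp_apply, ← Scheme.Hom.comp_apply,
      IsAffineOpen.SpecMap_appLE_fromSpec f hV₀ hW e]
  have hmemW : ∀ q : PrimeSpectrum Γ(X, W), hW.fromSpec q ∈ W := fun q => by
    have : hW.fromSpec q ∈ Set.range hW.fromSpec := ⟨q, rfl⟩
    rwa [hW.range_fromSpec] at this
  obtain ⟨g, hg, hgI⟩ := exists_notMem_of_forall_comap_ne φ I p.asIdeal hp (by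
    intro q hq hIq hqp
    let q' : PrimeSpectrum Γ(X, W) := ⟨q, hq⟩
    have h1 : q' ∈ hW.fromSpec ⁻¹' Z := by
      rw [hI]; exact hIq
    have h2 : f (hW.fromSpec q') = η := by
      rw [key]
      have : Spec.map (f.appLE V₀ W e) q' = p := PrimeSpectrum.ext hqp
      rw [this, hV₀.fromSpec_primeIdealOf]
    exact hZF _ ⟨h1, hmemW q'⟩ h2)
  refine ⟨g, (mem_basicOpen_iff_notMem_primeIdealOf hV₀ η hηV g).mpr hg, ?_⟩
  rintro x ⟨hxZ, hxW⟩ hx
  -- x = fromSpec q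
  obtain ⟨q, rfl⟩ : x ∈ Set.range hW.fromSpec := by rw [hW.range_fromSpec]; exact hxW
  have h1 : q ∈ hW.fromSpec ⁻¹' Z := hxZ
  rw [hI] at h1
  have h2 : φ g ∈ q.asIdeal := h1 hgI
  rw [key] at hx
  have h3 : Spec.map (f.appLE V₀ W e) q ∈ hV₀.fromSpec ⁻¹ᵁ Y.basicOpen g := hx
  rw [hV₀.fromSpec_preimage_basicOpen] at h3
  exact h3 h2


lemma isFinite_morphismRestrict_of_resLE (f : X ⟶ Y) (U : X.Opens) (V : Y.Opens)
    (hUV : f ⁻¹ᵁ V = U) (h : IsFinite (f.resLE V U hUV.ge)) : IsFinite (f ∣_ V) := by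
  subst hUV
  rwa [Scheme.Hom.resLE_eq_morphismRestrict] at h

lemma basicOpen_prod_le {V : Y.Opens} {ι : Type*} (s : Finset ι) (g : ι → Γ(Y, V)) {i : ι}
    (hi : i ∈ s) : Y.basicOpen (∏ j ∈ s, g j) ≤ Y.basicOpen (g i) := by
  obtain ⟨c, hc⟩ := Finset.dvd_prod_of_mem g hi
  rw [hc, Scheme.basicOpen_mul]
  exact inf_le_left

/-- **Core lemma**: if the finite fibre over a generic point `η` lies in an affine open `A`
over the affine `V₀ ∋ η`, then `f` is finite over an affine neighbourhood of `η`. -/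
theorem exists_isFinite_morphismRestrict (f : X ⟶ Y) [LocallyOfFiniteType f] [QuasiCompact f]
    (η : Y) (hη : closure {η} ∈ irreducibleComponents (Y : Type u))
    {V₀ : Y.Opens} (hV₀ : IsAffineOpen V₀) (hηV : η ∈ V₀) {A : X.Opens} (hA : IsAffineOpen A)
    (e : A ≤ f ⁻¹ᵁ V₀) (hFA : f ⁻¹' {η} ⊆ A) (hfin : (f ⁻¹' {η}).Finite) :
    ∃ V : Y.Opens, IsAffineOpen V ∧ η ∈ V ∧ V ≤ V₀ ∧ IsFinite (f ∣_ V) := by
  classical
  -- Step 1: finite affine cover of `f⁻¹V₀`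
  have hc : IsCompact (f ⁻¹ᵁ V₀ : Set X) := f.isCompact_preimage hV₀.isCompact
  obtain ⟨s, hs, hsU⟩ := isCompact_iff_finite_and_eq_biUnion_affineOpens.mp hc
  have hle : ∀ W ∈ s, (W : X.Opens) ≤ f ⁻¹ᵁ V₀ := fun W hW => by
    rw [hsU]; exact le_iSup₂ (f := fun (i : X.affineOpens) (_ : i ∈ s) => (i : X.Opens)) W hW
  have hZ : ∀ W ∈ s, ∃ g : Γ(Y, V₀), η ∈ Y.basicOpen g ∧
      ∀ x ∈ ((A : Set X)ᶜ ∩ (W : X.Opens)), f x ∉ Y.basicOpen g := fun W hW =>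
    exists_basicOpen_disjoint f η hη hV₀ hηV W.2 (hle W hW) _ A.isOpen.isClosed_compl
      (fun x hx hfx => hx.1 (hFA hfx))
  choose! g hg1 hg2 using hZ
  let g₀ : Γ(Y, V₀) := ∏ W ∈ hs.toFinset, g W
  have hηg₀ : η ∈ Y.basicOpen g₀ := by
    rw [mem_basicOpen_iff_notMem_primeIdealOf hV₀ η hηV, Ideal.IsPrime.prod_mem_iff]
    rintro ⟨W, hW, hgW⟩
    exact (mem_basicOpen_iff_notMem_primeIdealOf hV₀ η hηV _).mp
      (hg1 W (hs.mem_toFinset.mp hW)) hgW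
  -- `f⁻¹ D(g₀) ≤ A`
  have hpre : f ⁻¹ᵁ Y.basicOpen g₀ ≤ A := by
    intro x hx
    by_contra hxA
    have hxV₀ : x ∈ f ⁻¹ᵁ V₀ := Y.basicOpen_le g₀ hx
    rw [hsU] at hxV₀
    simp only [TopologicalSpace.Opens.mem_iSup] at hxV₀
    obtain ⟨W, hW, hxW⟩ := hxV₀
    exact hg2 W hW x ⟨hxA, hxW⟩ (basicOpen_prod_le _ g (hs.mem_toFinset.mpr hW) hx)
  -- Step 2: apply the local lemma to `V₁ = D(g₀)` and `A₁ = f⁻¹V₁`
  set V₁ := Y.basicOpen g₀ with hV₁def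
  have hV₁ : IsAffineOpen V₁ := hV₀.basicOpen g₀
  have hA₁eq : f ⁻¹ᵁ V₁ = X.basicOpen (f.appLE V₀ A e g₀) := by
    rw [Scheme.basicOpen_appLE]
    exact (inf_eq_right.mpr hpre).symm
  have hA₁ : IsAffineOpen (f ⁻¹ᵁ V₁) := hA₁eq ▸ hA.basicOpen _
  obtain ⟨g₁, hηg₁, hfin₁⟩ := exists_isFinite_resLE f η hη hV₁ hηg₀ hA₁ le_rfl
    (hfin.subset Set.inter_subset_right)
  refine ⟨Y.basicOpen g₁, hV₁.basicOpen g₁, hηg₁, (Y.basicOpen_le g₁).trans (Y.basicOpen_le g₀), ?_⟩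
  refine isFinite_morphismRestrict_of_resLE f _ _ ?_ hfin₁
  rw [Scheme.basicOpen_appLE]
  exact (inf_eq_right.mpr (f.preimage_mono (Y.basicOpen_le g₁))).symm

end Groth.Agent.H5.GF
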