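import Mathlib
import Groth.Agent.Lib.Helper5.GF.GF2

set_option autoImplicit false
universe u

open CategoryTheory AlgebraicGeometry

namespace Groth.Agent.H5.GF

variable {X Y : Scheme.{u}}

/-- Removing a compact open not meeting the fibre over a generic point. -/
theorem exists_basicOpen_disjoint_of_isCompact (f : X ⟶ Y)
    (η : Y) (hη : closure {η} ∈ irreducibleComponents (Y : Type u))
    {V₀ : Y.Opens} (hV₀ : IsAffineOpen V₀) (hηV : η ∈ V₀) (K : X.Opens)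
    (hK : IsCompact (K : Set X)) (hKV : K ≤ f ⁻¹ᵁ V₀) (hKF : ∀ x ∈ K, f x ≠ η) :
    ∃ g : Γ(Y, V₀), η ∈ Y.basicOpen g ∧ ∀ x ∈ K, f x ∉ Y.basicOpen g := by
  classical
  obtain ⟨s, hs, hsU⟩ := isCompact_iff_finite_and_eq_biUnion_affineOpens.mp hK
  have hle : ∀ W ∈ s, (W : X.Opens) ≤ K := fun W hW => by
    rw [hsU]; exact le_iSup₂ (f := fun (i : X.affineOpens) (_ : i ∈ s) => (i : X.Opens)) W hW
  have hZ : ∀ W ∈ s, ∃ g : Γ(Y, V₀), η ∈ Y.basicOpen g ∧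
      ∀ x ∈ (Set.univ ∩ ((W : X.Opens) : Set X)), f x ∉ Y.basicOpen g := fun W hW =>
    exists_basicOpen_disjoint f η hη hV₀ hηV W.2 ((hle W hW).trans hKV) _ isClosed_univ
      (fun x hx hfx => hKF x (hle W hW hx.2) hfx)
  choose! g hg1 hg2 using hZ
  refine ⟨∏ W ∈ hs.toFinset, g W, ?_, ?_⟩
  · rw [mem_basicOpen_iff_notMem_primeIdealOf hV₀ η hηV, Ideal.IsPrime.prod_mem_iff]
    rintro ⟨W, hW, hgW⟩
    exact (mem_basicOpen_iff_notMem_primeIdealOf hV₀ η hηV _).mp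
      (hg1 W (hs.mem_toFinset.mp hW)) hgW
  · intro x hxK hx
    rw [hsU] at hxK
    simp only [TopologicalSpace.Opens.mem_iSup] at hxK
    obtain ⟨W, hW, hxW⟩ := hxK
    exact hg2 W hW x ⟨trivial, hxW⟩ (basicOpen_prod_le _ g (hs.mem_toFinset.mpr hW) hx)


/-- **Generic finiteness** at a generic point with finite fibre (qcqs case). -/
theorem exists_isFinite_of_finite_fiber (f : X ⟶ Y) [LocallyOfFiniteType f] [QuasiCompact f]
    [QuasiSeparated f] (η : Y) (hη : closure {η} ∈ irreducibleComponents (Y : Type u))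
    (hfin : (f ⁻¹' {η}).Finite) :
    ∃ V : Y.Opens, IsAffineOpen V ∧ η ∈ V ∧ IsFinite (f ∣_ V) := by
  classical
  obtain ⟨V₀, hV₀, hηV, -⟩ := exists_isAffineOpen_mem_and_subset (x := η) (U := ⊤) trivial
  -- discreteness of the fibre
  haveI : Finite (f.fiber η) := (f.fiberHomeo η).finite_iff.mpr hfin
  haveI : DiscreteTopology (f.fiber η) := inferInstance
  haveI : DiscreteTopology (f ⁻¹' {η}) := (f.fiberHomeo η).symm.isEmbedding.discreteTopology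
  have hO : ∀ ξ : X, f ξ = η → ∃ A : X.Opens, IsAffineOpen A ∧ ξ ∈ A ∧ A ≤ f ⁻¹ᵁ V₀ ∧
      ∀ x ∈ A, f x = η → x = ξ := by
    intro ξ hξ
    have : IsOpen ({⟨ξ, hξ⟩} : Set (f ⁻¹' {η})) := isOpen_discrete _
    obtain ⟨O, hO, hOeq⟩ := isOpen_induced_iff.mp this
    have hξO : ξ ∈ O := by
      have : (⟨ξ, hξ⟩ : f ⁻¹' {η}) ∈ Subtype.val ⁻¹' O := by rw [hOeq]; rfl
      exact this
    obtain ⟨A, hA, hξA, hAO⟩ := exists_isAffineOpen_mem_and_subset (x := ξ)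
      (U := ⟨O, hO⟩ ⊓ f ⁻¹ᵁ V₀) ⟨hξO, by simpa [hξ] using hηV⟩
    refine ⟨A, hA, hξA, fun x hx => (hAO hx).2, fun x hx hfx => ?_⟩
    have : (⟨x, hfx⟩ : f ⁻¹' {η}) ∈ Subtype.val ⁻¹' O := (hAO hx).1
    rw [hOeq] at this
    exact congrArg Subtype.val this
  choose! A hA hξA hAV hAF using hO
  -- quasi-separatedness
  have hqs : IsQuasiSeparated ((f ⁻¹ᵁ V₀ : X.Opens) : Set X) := by
    rw [isQuasiSeparated_iff_quasiSeparatedSpace _ (f ⁻¹ᵁ V₀).isOpen]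
    haveI : IsAffine V₀.toScheme := hV₀
    exact (quasiSeparated_iff_quasiSeparatedSpace (f ∣_ V₀)).mp inferInstance
  have hpair : ∀ q : X × X, q ∈ hfin.toFinset.offDiag → ∃ g : Γ(Y, V₀), η ∈ Y.basicOpen g ∧
      ∀ x ∈ A q.1 ⊓ A q.2, f x ∉ Y.basicOpen g := by
    rintro ⟨ξ, ξ'⟩ hq
    simp only [Finset.mem_offDiag, Set.Finite.mem_toFinset, Set.mem_preimage,
      Set.mem_singleton_iff] at hq
    obtain ⟨h1, h2, hne⟩ := hq
    refine exists_basicOpen_disjoint_of_isCompact f η hη hV₀ hηV (A ξ ⊓ A ξ') ?_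
      (inf_le_left.trans (hAV ξ h1)) ?_
    · exact hqs _ _ (hAV ξ h1) (A ξ).isOpen (hA ξ h1).isCompact (hAV ξ' h2) (A ξ').isOpen
        (hA ξ' h2).isCompact
    · rintro x ⟨hx1, hx2⟩ hfx
      exact hne ((hAF ξ h1 x hx1 hfx).symm.trans (hAF ξ' h2 x hx2 hfx))
  choose! G hG1 hG2 using hpair
  let g₁ : Γ(Y, V₀) := ∏ q ∈ hfin.toFinset.offDiag, G q
  have hηg₁ : η ∈ Y.basicOpen g₁ := by
    rw [mem_basicOpen_iff_notMem_primeIdealOf hV₀ η hηV, Ideal.IsPrime.prod_mem_iff]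
    rintro ⟨q, hq, hgq⟩
    exact (mem_basicOpen_iff_notMem_primeIdealOf hV₀ η hηV _).mp (hG1 q hq) hgq
  set V₁ := Y.basicOpen g₁ with hV₁def
  have hV₁ : IsAffineOpen V₁ := hV₀.basicOpen g₁
  let A' : X → X.Opens := fun ξ => A ξ ⊓ f ⁻¹ᵁ V₁
  have hA' : ∀ ξ ∈ f ⁻¹' {η}, IsAffineOpen (A' ξ) := by
    intro ξ hξ
    have : A' ξ = X.basicOpen (f.appLE V₀ (A ξ) (hAV ξ hξ) g₁) := by
      rw [Scheme.basicOpen_appLE]
    rw [this]
    exact (hA ξ hξ).basicOpen _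
  have hdisj : (f ⁻¹' {η}).Pairwise (Function.onFun Disjoint A') := by
    intro ξ hξ ξ' hξ' hne
    rw [Function.onFun, disjoint_iff, eq_bot_iff]
    rintro x ⟨⟨hx1, hx1'⟩, ⟨hx2, -⟩⟩
    have hq : (ξ, ξ') ∈ hfin.toFinset.offDiag := by
      simp only [Finset.mem_offDiag, Set.Finite.mem_toFinset]
      exact ⟨hξ, hξ', hne⟩
    exact hG2 (ξ, ξ') hq x ⟨hx1, hx2⟩ (basicOpen_prod_le _ G hq hx1')
  have hA'' : IsAffineOpen (⨆ ξ ∈ f ⁻¹' {η}, A' ξ) := IsAffineOpen.biSup_of_disjoint hfin hA' hdisj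
  have hle : (⨆ ξ ∈ f ⁻¹' {η}, A' ξ) ≤ f ⁻¹ᵁ V₁ := iSup₂_le fun ξ _ => inf_le_right
  have hF : f ⁻¹' {η} ⊆ ((⨆ ξ ∈ f ⁻¹' {η}, A' ξ : X.Opens) : Set X) := by
    intro ξ hξ
    have h1 : ξ ∈ A' ξ := ⟨hξA ξ hξ, by
      change f ξ ∈ V₁
      rw [show f ξ = η from hξ]; exact hηg₁⟩
    exact (le_iSup₂ (f := fun ξ (_ : ξ ∈ f ⁻¹' {η}) => A' ξ) ξ hξ) h1
  obtain ⟨V, hV, hηV', -, hVfin⟩ :=
    exists_isFinite_morphismRestrict f η hη hV₁ hηg₁ hA'' hle hF hfin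
  exact ⟨V, hV, hηV', hVfin⟩


lemma finite_fiber_of_isFinite_morphismRestrict (f : X ⟶ Y) (η : Y) (V : Y.Opens) (hηV : η ∈ V)
    [IsFinite (f ∣_ V)] : (f ⁻¹' {η}).Finite := by
  have h1 : ((f ∣_ V) ⁻¹' {⟨η, hηV⟩}).Finite := (f ∣_ V).finite_preimage_singleton _
  refine (h1.image (f ⁻¹ᵁ V).ι).subset ?_
  intro x hx
  have hxV : x ∈ f ⁻¹ᵁ V := by
    change f x ∈ V
    rw [show f x = η from hx]; exact hηV
  refine ⟨⟨x, hxV⟩, ?_, rfl⟩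
  change (f ∣_ V) ⟨x, hxV⟩ = ⟨η, hηV⟩
  apply Subtype.ext
  exact (morphismRestrict_base_coe f V ⟨x, hxV⟩).trans hx

theorem finite_preimage_generic_iff (f : X ⟶ Y) [LocallyOfFiniteType f]
    [QuasiCompact f] [QuasiSeparated f] (η : Y)
    (hη : closure {η} ∈ irreducibleComponents (Y : Type u)) :
    (f ⁻¹' {η}).Finite ↔ ∃ V : Y.Opens, IsAffineOpen V ∧ η ∈ V ∧ IsFinite (f ∣_ V) :=
  ⟨exists_isFinite_of_finite_fiber f η hη, fun ⟨V, _, hηV, h⟩ =>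
    haveI := h
    finite_fiber_of_isFinite_morphismRestrict f η V hηV⟩

end Groth.Agent.H5.GF
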