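import Mathlib
import Groth.Agent.Lib.Helper5.GF.GF3

set_option autoImplicit false
universe u

open CategoryTheory AlgebraicGeometry

namespace Groth.Agent.H5.GF

variable {X Y : Scheme.{u}}

/-- A property local on the target holds over a union of opens if it holds over each. -/
lemma morphismRestrict_iSup_of_forall {P : MorphismProperty Scheme.{u}} [IsZariskiLocalAtTarget P]
    {ι : Type*} (f : X ⟶ Y) (V : ι → Y.Opens) (h : ∀ i, P (f ∣_ V i)) : P (f ∣_ (⨆ i, V i)) := by
  rw [IsZariskiLocalAtTarget.iff_of_iSup_eq_top (P := P) (U := fun i : ι ↦ (⨆ i, V i).ι ⁻¹ᵁ V i)]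
  · intro i
    have heq : (⨆ i, V i).ι ''ᵁ ((⨆ i, V i).ι ⁻¹ᵁ V i) = V i := by
      simp [Scheme.Hom.image_preimage_eq_opensRange_inf, le_iSup V]
    rw [P.arrow_mk_iso_iff (morphismRestrictRestrict f _ _ ≪≫ morphismRestrictEq f heq)]
    exact h i
  apply (⨆ i, V i).ι.image_injective
  dsimp
  rw [Scheme.Hom.image_iSup, Scheme.Hom.image_top_eq_opensRange, Scheme.Opens.opensRange_ι]
  simp [Scheme.Hom.image_preimage_eq_opensRange_inf, le_iSup V]


section topology

variable {T : Type*} [TopologicalSpace T]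

/-- The generic points of irreducible components are finite in number if the components are. -/
lemma finite_setOf_closure_mem_irreducibleComponents [T0Space T]
    (hT : (irreducibleComponents T).Finite) :
    {x : T | closure {x} ∈ irreducibleComponents T}.Finite := by
  refine Set.Finite.of_finite_image (f := fun x : T => closure {x}) (hT.subset ?_) ?_
  · rintro _ ⟨x, hx, rfl⟩; exact hx
  · intro x _ y _ hxy
    exact (inseparable_iff_closure_eq.mpr hxy).eq

/-- The complement of the other irreducible components. -/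
def compOpen (ξ : T) : Set T := (⋃₀ (irreducibleComponents T \ {closure {ξ}}))ᶜ

lemma isOpen_compOpen (hT : (irreducibleComponents T).Finite) (ξ : T) : IsOpen (compOpen ξ) := by
  rw [compOpen, isOpen_compl_iff, Set.sUnion_eq_biUnion]
  exact (hT.subset Set.diff_subset).isClosed_biUnion
    fun C hC => isClosed_of_mem_irreducibleComponents C hC.1

lemma mem_compOpen {ξ : T} (hξ : closure {ξ} ∈ irreducibleComponents T) : ξ ∈ compOpen ξ := by
  rintro ⟨C, ⟨hC, hne⟩, hξC⟩
  apply hne
  have hCc : IsClosed C := isClosed_of_mem_irreducibleComponents C hC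
  have h1 : closure {ξ} ⊆ C := hCc.closure_subset_iff.mpr (Set.singleton_subset_iff.mpr hξC)
  exact (h1.antisymm (hξ.2 hC.1 h1)).symm

lemma compOpen_disjoint [T0Space T] {ξ ξ' : T} (hne : ξ ≠ ξ') :
    Disjoint (compOpen ξ) (compOpen ξ') := by
  rw [Set.disjoint_iff]
  rintro x ⟨hx, hx'⟩
  have hC := irreducibleComponent_mem_irreducibleComponents x
  have hxC : x ∈ irreducibleComponent x := mem_irreducibleComponent
  have h1 : irreducibleComponent x = closure {ξ} := by
    by_contra h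
    exact hx ⟨_, ⟨hC, h⟩, hxC⟩
  have h2 : irreducibleComponent x = closure {ξ'} := by
    by_contra h
    exact hx' ⟨_, ⟨hC, h⟩, hxC⟩
  exact hne (inseparable_iff_closure_eq.mpr (h1.symm.trans h2)).eq

end topology


/-- Generic finiteness at a generic point whose fibre consists of generic points of `X`
(no quasi-separatedness needed). -/
theorem exists_isFinite_of_fiber_generic (f : X ⟶ Y) [LocallyOfFiniteType f] [QuasiCompact f]
    (hX : (irreducibleComponents (X : Type u)).Finite) (η : Y)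
    (hη : closure {η} ∈ irreducibleComponents (Y : Type u))
    (hgen : ∀ x : X, f x = η → closure {x} ∈ irreducibleComponents (X : Type u)) :
    ∃ V : Y.Opens, IsAffineOpen V ∧ η ∈ V ∧ IsFinite (f ∣_ V) := by
  classical
  obtain ⟨V₀, hV₀, hηV, -⟩ := exists_isAffineOpen_mem_and_subset (x := η) (U := ⊤) trivial
  have hfin : (f ⁻¹' {η}).Finite :=
    (finite_setOf_closure_mem_irreducibleComponents hX).subset fun x hx => hgen x hx
  have hO : ∀ ξ : X, f ξ = η → ∃ A : X.Opens, IsAffineOpen A ∧ ξ ∈ A ∧ A ≤ f ⁻¹ᵁ V₀ ∧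
      (A : Set X) ⊆ compOpen ξ := by
    intro ξ hξ
    obtain ⟨A, hA, hξA, hAO⟩ := exists_isAffineOpen_mem_and_subset (x := ξ)
      (U := ⟨compOpen ξ, isOpen_compOpen hX ξ⟩ ⊓ f ⁻¹ᵁ V₀)
      ⟨mem_compOpen (hgen ξ hξ), by simpa [hξ] using hηV⟩
    exact ⟨A, hA, hξA, fun x hx => (hAO hx).2, fun x hx => (hAO hx).1⟩
  choose! A hA hξA hAV hAO using hO
  have hdisj : (f ⁻¹' {η}).Pairwise (Function.onFun Disjoint A) := by
    intro ξ hξ ξ' hξ' hne
    rw [Function.onFun, ← TopologicalSpace.Opens.coe_disjoint]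
    exact (compOpen_disjoint hne).mono (hAO ξ hξ) (hAO ξ' hξ')
  have hA'' : IsAffineOpen (⨆ ξ ∈ f ⁻¹' {η}, A ξ) := IsAffineOpen.biSup_of_disjoint hfin hA hdisj
  have hle : (⨆ ξ ∈ f ⁻¹' {η}, A ξ) ≤ f ⁻¹ᵁ V₀ := iSup₂_le fun ξ hξ => hAV ξ hξ
  have hF : f ⁻¹' {η} ⊆ ((⨆ ξ ∈ f ⁻¹' {η}, A ξ : X.Opens) : Set X) := fun ξ hξ =>
    (le_iSup₂ (f := fun ξ (_ : ξ ∈ f ⁻¹' {η}) => A ξ) ξ hξ) (hξA ξ hξ)
  obtain ⟨V, hV, hηV', -, hVfin⟩ :=
    exists_isFinite_morphismRestrict f η hη hV₀ hηV hA'' hle hF hfin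
  exact ⟨V, hV, hηV', hVfin⟩

/-- **Generic finiteness over a dense open.** -/
theorem exists_dense_open_isFinite (f : X ⟶ Y) [LocallyOfFiniteType f] [QuasiCompact f]
    (hX : (irreducibleComponents (X : Type u)).Finite)
    (hgen : ∀ x : X, closure {f x} ∈ irreducibleComponents (Y : Type u) →
      closure {x} ∈ irreducibleComponents (X : Type u)) :
    ∃ V : Y.Opens, Dense (V : Set Y) ∧ IsFinite (f ∣_ V) := by
  have H : ∀ η : {η : Y // closure {η} ∈ irreducibleComponents (Y : Type u)},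
      ∃ V : Y.Opens, IsAffineOpen V ∧ η.1 ∈ V ∧ IsFinite (f ∣_ V) := fun η =>
    exists_isFinite_of_fiber_generic f hX η.1 η.2 fun x hx => hgen x (by rw [hx]; exact η.2)
  choose V hV hηV hVfin using H
  refine ⟨⨆ η, V η, ?_, morphismRestrict_iSup_of_forall f V hVfin⟩
  intro y
  have hC := irreducibleComponent_mem_irreducibleComponents y
  obtain ⟨η, hη⟩ := QuasiSober.sober (isIrreducible_irreducibleComponent (x := y))
    isClosed_irreducibleComponent
  have hη' : closure {η} = irreducibleComponent y := hη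
  have hηmem : η ∈ ((⨆ η, V η : Y.Opens) : Set Y) :=
    (le_iSup V ⟨η, hη' ▸ hC⟩) (hηV ⟨η, hη' ▸ hC⟩)
  have h1 : closure {η} ⊆ closure ((⨆ η, V η : Y.Opens) : Set Y) :=
    closure_mono (Set.singleton_subset_iff.mpr hηmem)
  exact h1 (hη' ▸ mem_irreducibleComponent)

end Groth.Agent.H5.GF
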