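import Mathlib
import Groth.Agent.Lib.Helper5.GF.GF2

set_option autoImplicit false
universe u

open CategoryTheory AlgebraicGeometry

namespace Groth.Agent.H5.GF

section topology

variable {T : Type*} [TopologicalSpace T]

/-- A point with no proper generization. -/
def IsMinPt (x : T) : Prop := ∀ y : T, y ⤳ x → y = x

lemma IsMinPt.closure_mem_irreducibleComponents [QuasiSober T] [T0Space T] {x : T}
    (hx : IsMinPt x) : closure {x} ∈ irreducibleComponents T := by
  refine ⟨isIrreducible_singleton.closure, fun Z hZ hle => ?_⟩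
  obtain ⟨z, hz⟩ := QuasiSober.sober hZ.closure isClosed_closure
  have hxz : x ∈ closure ({z} : Set T) := by
    rw [hz.def]; exact subset_closure (hle (subset_closure rfl))
  have hzx : z ⤳ x := specializes_iff_mem_closure.mpr hxz
  have := hx z hzx
  subst this
  rw [hz.def]; exact subset_closure

lemma isMinPt_of_closure_mem_irreducibleComponents [T0Space T] {x : T}
    (hx : closure {x} ∈ irreducibleComponents T) : IsMinPt x := by
  intro y hy
  have h3 : closure {x} ⊆ closure {y} := hy.closure_subset ..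
  have h4 : closure {y} ≤ closure {x} := hx.2 (isIrreducible_singleton.closure) h3
  have h5 : x ⤳ y := by rw [specializes_iff_closure_subset]; exact h4
  exact (hy.antisymm h5).eq

lemma finite_irreducibleComponents_of_finite_isMinPt [QuasiSober T] [T0Space T]
    (h : {x : T | IsMinPt x}.Finite) : (irreducibleComponents T).Finite := by
  refine (h.image fun x => closure {x}).subset ?_
  intro C hC
  obtain ⟨g, hg⟩ := QuasiSober.sober hC.1 (isClosed_of_mem_irreducibleComponents C hC)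
  refine ⟨g, ?_, hg.def⟩
  apply isMinPt_of_closure_mem_irreducibleComponents
  rw [hg.def]; exact hC

lemma finite_isMinPt_of_finite_irreducibleComponents [QuasiSober T] [T0Space T]
    (h : (irreducibleComponents T).Finite) : {x : T | IsMinPt x}.Finite := by
  refine Set.Finite.of_finite_image (f := fun x : T => closure {x}) (h.subset ?_) ?_
  · rintro _ ⟨x, hx, rfl⟩; exact hx.closure_mem_irreducibleComponents
  · intro x _ y _ hxy
    exact (inseparable_iff_closure_eq.mpr hxy).eq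

/-- Minimal points of an open subspace are the minimal points of the ambient space in it. -/
lemma isMinPt_subtype_iff {W : Set T} (hW : IsOpen W) (w : W) :
    IsMinPt w ↔ IsMinPt (w : T) := by
  constructor
  · intro h y hy
    have hyW : y ∈ W := hy.mem_open hW w.2
    have : (⟨y, hyW⟩ : W) ⤳ w := (subtype_specializes_iff _ _).mpr hy
    exact congrArg Subtype.val (h _ this)
  · intro h y hy
    have : (y : T) ⤳ w := (subtype_specializes_iff _ _).mp hy
    exact Subtype.ext (h _ this)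

end topology


section ring

/-- Finitely many minimal primes of a finite type algebra lie over a given prime. -/
lemma finite_minimalPrimes_comap_eq {A C : Type*} [CommRing A] [CommRing C] [Algebra A C]
    [Algebra.FiniteType A C] (p : PrimeSpectrum A) :
    {q : PrimeSpectrum C | q.asIdeal ∈ minimalPrimes C ∧
      PrimeSpectrum.comap (algebraMap A C) q = p}.Finite := by
  let e := PrimeSpectrum.preimageOrderIsoFiber A C p
  haveI : IsNoetherianRing (p.asIdeal.Fiber C) :=
    Algebra.FiniteType.isNoetherianRing p.asIdeal.ResidueField _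
  have hfin : {Q : PrimeSpectrum (p.asIdeal.Fiber C) | Q.asIdeal ∈ minimalPrimes _}.Finite := by
    refine Set.Finite.of_finite_image (f := PrimeSpectrum.asIdeal)
      ((minimalPrimes.finite_of_isNoetherianRing _).subset ?_) ?_
    · rintro _ ⟨Q, hQ, rfl⟩; exact hQ
    · intro Q _ Q' _ h; exact PrimeSpectrum.ext h
  let g : PrimeSpectrum (p.asIdeal.Fiber C) → PrimeSpectrum C := fun Q => (e.symm Q).1
  refine (hfin.image g).subset ?_
  rintro q ⟨hqmin, hqp⟩
  refine ⟨e ⟨q, hqp⟩, ?_, by simp [g]⟩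
  change (e ⟨q, hqp⟩).asIdeal ∈ minimalPrimes _
  rw [minimalPrimes_eq_minimals]
  refine ⟨(e ⟨q, hqp⟩).isPrime, fun Q' hQ' hle => ?_⟩
  let Q'' : PrimeSpectrum (p.asIdeal.Fiber C) := ⟨Q', hQ'⟩
  have h1 : Q'' ≤ e ⟨q, hqp⟩ := hle
  have h2 : e.symm Q'' ≤ ⟨q, hqp⟩ := by
    rw [← e.le_iff_le]; simpa using h1
  have h3 : (e.symm Q'').1.asIdeal ≤ q.asIdeal := h2
  rw [minimalPrimes_eq_minimals] at hqmin
  have h4 : q.asIdeal ≤ (e.symm Q'').1.asIdeal := hqmin.2 (e.symm Q'').1.isPrime h3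
  have h5 : (⟨q, hqp⟩ : PrimeSpectrum.comap (algebraMap A C) ⁻¹' {p}) ≤ e.symm Q'' := h4
  have h6 : e ⟨q, hqp⟩ ≤ Q'' := by
    have := e.monotone h5
    simpa using this
  exact h6

end ring


variable {X Y : Scheme.{u}}

/-- The prime of an affine open corresponding to a point without proper generizations
is a minimal prime. -/
lemma primeIdealOf_mem_minimalPrimes_of_isMinPt {V : Y.Opens} (hV : IsAffineOpen V) (η : Y)
    (hηV : η ∈ V) (hη : IsMinPt η) :
    (hV.primeIdealOf ⟨η, hηV⟩).asIdeal ∈ minimalPrimes Γ(Y, V) := by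
  rw [minimalPrimes_eq_minimals]
  refine ⟨(hV.primeIdealOf ⟨η, hηV⟩).isPrime, ?_⟩
  intro q hq hle
  let q' : PrimeSpectrum Γ(Y, V) := ⟨q, hq⟩
  have h1 : q' ⤳ hV.primeIdealOf ⟨η, hηV⟩ := (PrimeSpectrum.le_iff_specializes _ _).mp hle
  have h2 : hV.fromSpec q' ⤳ η := by
    have := h1.map hV.fromSpec.continuous
    rwa [hV.fromSpec_primeIdealOf] at this
  have h6 : hV.fromSpec q' = η := hη _ h2
  have h7 : q' = hV.primeIdealOf ⟨η, hηV⟩ := by
    apply hV.fromSpec.isOpenEmbedding.injective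
    rw [h6, hV.fromSpec_primeIdealOf]
  have := congrArg PrimeSpectrum.asIdeal h7
  exact this.ge

/-- Finitely many minimal points of an affine open `W` lie over a given point. -/
lemma finite_isMinPt_fiber (f : Y ⟶ X) [LocallyOfFiniteType f] {W : Y.Opens} (hW : IsAffineOpen W)
    {Ω : X.Opens} (hΩ : IsAffineOpen Ω) (e : W ≤ f ⁻¹ᵁ Ω) (η : X) :
    {ξ : Y | ξ ∈ W ∧ IsMinPt ξ ∧ f ξ = η}.Finite := by
  by_cases hη : η ∈ Ω
  swap
  · convert Set.finite_empty
    ext ξ
    simp only [Set.mem_setOf_eq, Set.mem_empty_iff_false, iff_false, not_and]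
    rintro hξ - rfl
    exact hη (e hξ)
  letI : Algebra Γ(X, Ω) Γ(Y, W) := (f.appLE Ω W e).hom.toAlgebra
  haveI : Algebra.FiniteType Γ(X, Ω) Γ(Y, W) := f.finiteType_appLE hΩ hW e
  have hfin := finite_minimalPrimes_comap_eq (A := Γ(X, Ω)) (C := Γ(Y, W))
    (hΩ.primeIdealOf ⟨η, hη⟩)
  refine (hfin.image hW.fromSpec).subset ?_
  rintro ξ ⟨hξW, hξmin, rfl⟩
  refine ⟨hW.primeIdealOf ⟨ξ, hξW⟩, ⟨primeIdealOf_mem_minimalPrimes_of_isMinPt hW ξ hξW hξmin, ?_⟩,
    hW.fromSpec_primeIdealOf _⟩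
  exact IsAffineOpen.comap_primeIdealOf_appLE Ω hΩ W hW e hξW

/-- **Finiteness of irreducible components is inherited along flat morphisms locally of finite
presentation.** -/
theorem finite_irreducibleComponents_of_flat (f : Y ⟶ X) [Flat f] [LocallyOfFinitePresentation f]
    (hX : ∀ U : X.Opens, IsCompact (U : Set X) → (irreducibleComponents (U : Type u)).Finite)
    (V : Y.Opens) (hV : IsCompact (V : Set Y)) : (irreducibleComponents (V : Type u)).Finite := by
  classical
  apply finite_irreducibleComponents_of_finite_isMinPt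
  -- the image of `V`
  obtain ⟨U, hUdef⟩ : ∃ U : X.Opens, (U : Set X) = f '' (V : Set Y) :=
    ⟨⟨f '' (V : Set Y), f.isOpenMap _ V.isOpen⟩, rfl⟩
  have hU : IsCompact (U : Set X) := hUdef ▸ hV.image f.continuous
  have hM : {x : (U : Type u) | IsMinPt x}.Finite :=
    finite_isMinPt_of_finite_irreducibleComponents (hX U hU)
  -- affine cover of `V` adapted to `f`
  have hcov : ∀ v : Y, v ∈ V → ∃ W : Y.Opens, IsAffineOpen W ∧ v ∈ W ∧ W ≤ V ∧
      ∃ Ω : X.Opens, IsAffineOpen Ω ∧ W ≤ f ⁻¹ᵁ Ω := by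
    intro v hv
    obtain ⟨Ω, hΩ, hvΩ, -⟩ := exists_isAffineOpen_mem_and_subset (x := f v) (U := ⊤) trivial
    obtain ⟨W, hW, hvW, hWle⟩ := exists_isAffineOpen_mem_and_subset (x := v)
      (U := V ⊓ f ⁻¹ᵁ Ω) ⟨hv, hvΩ⟩
    exact ⟨W, hW, hvW, fun x hx => (hWle hx).1, Ω, hΩ, fun x hx => (hWle hx).2⟩
  choose! W hW hvW hWV Ω hΩ hWΩ using hcov
  obtain ⟨t, htV, htcov⟩ := hV.elim_nhds_subcover (fun v => (W v : Set Y))
    (fun v hv => (W v).isOpen.mem_nhds (hvW v hv))
  -- the finite set containing all minimal points of `V`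
  have hB : (⋃ v ∈ t, ⋃ m ∈ {x : (U : Type u) | IsMinPt x},
      {ξ : Y | ξ ∈ W v ∧ IsMinPt ξ ∧ f ξ = m.1}).Finite := by
    refine t.finite_toSet.biUnion fun v hv => hM.biUnion fun m _ => ?_
    exact finite_isMinPt_fiber f (hW v (htV v hv)) (hΩ v (htV v hv)) (hWΩ v (htV v hv)) _
  refine Set.Finite.of_finite_image (f := Subtype.val) (hB.subset ?_) Subtype.val_injective.injOn
  rintro _ ⟨w, hw, rfl⟩
  have hwmin : IsMinPt w.1 := (isMinPt_subtype_iff V.isOpen w).mp hw
  obtain ⟨v, hvt, hwv⟩ := Set.mem_iUnion₂.mp (htcov w.2)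
  have hfw : f w.1 ∈ (U : Set X) := by
    rw [hUdef]; exact ⟨w.1, w.2, rfl⟩
  have hfmin : IsMinPt (f w.1) := by
    intro x hx
    obtain ⟨y, hy, rfl⟩ := (Flat.generalizingMap f) hx
    rw [hwmin y hy]
  have hfmin' : IsMinPt (⟨f w.1, hfw⟩ : (U : Type u)) := (isMinPt_subtype_iff U.isOpen _).mpr hfmin
  exact Set.mem_iUnion₂.mpr ⟨v, hvt, Set.mem_iUnion₂.mpr ⟨⟨f w.1, hfw⟩, hfmin', hwv, hwmin, rfl⟩⟩

end Groth.Agent.H5.GF
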