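import Mathlib
import Groth.Agent.Lib.Helper5.GF.GF3

set_option autoImplicit false
universe u

open CategoryTheory AlgebraicGeometry

namespace Groth.Agent.H5.GF

/-- In a quasi-separated scheme, finitely many generic points of irreducible components have
pairwise disjoint affine open neighbourhoods, which can moreover be chosen disjoint from a given
compact open not containing them. -/
theorem exists_disjoint_affine_nhds (X : Scheme.{u}) [QuasiSeparatedSpace X] (s : Set X)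
    (hs : s.Finite) (hgen : ∀ ξ ∈ s, closure {ξ} ∈ irreducibleComponents (X : Type u))
    (W : X.Opens) (hW : IsCompact (W : Set X)) (hsW : ∀ ξ ∈ s, ξ ∉ W) :
    ∃ U : X → X.Opens, (∀ ξ ∈ s, IsAffineOpen (U ξ) ∧ ξ ∈ U ξ ∧ Disjoint (U ξ) W) ∧
      s.Pairwise (Function.onFun Disjoint U) := by
  classical
  -- first choice of affine neighbourhoods avoiding the other points
  have hO : ∀ ξ ∈ s, ∃ A : X.Opens, IsAffineOpen A ∧ ξ ∈ A ∧ ∀ ξ' ∈ s, ξ' ≠ ξ → ξ' ∉ A := by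
    intro ξ hξ
    have hcl : IsClosed (⋃ ξ' ∈ s \ {ξ}, closure ({ξ'} : Set X)) :=
      (hs.subset Set.sdiff_subset).isClosed_biUnion fun _ _ => isClosed_closure
    have hξO : ξ ∈ (⋃ ξ' ∈ s \ {ξ}, closure ({ξ'} : Set X))ᶜ := by
      simp only [Set.mem_compl_iff, Set.mem_iUnion, not_exists]
      rintro ξ' ⟨hξ's, hne⟩ hmem
      apply hne
      -- ξ ∈ closure {ξ'} ⟹ closure {ξ} ⊆ closure {ξ'} ⟹ equal
      have h1 : closure ({ξ} : Set X) ⊆ closure {ξ'} :=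
        isClosed_closure.closure_subset_iff.mpr (Set.singleton_subset_iff.mpr hmem)
      have h2 := (hgen ξ hξ).2 (isIrreducible_singleton.closure) h1
      exact (inseparable_iff_closure_eq.mpr (h1.antisymm h2)).eq.symm
    obtain ⟨A, hA, hξA, hAO⟩ := exists_isAffineOpen_mem_and_subset (x := ξ)
      (U := ⟨_, hcl.isOpen_compl⟩) hξO
    refine ⟨A, hA, hξA, fun ξ' hξ' hne hmem => ?_⟩
    exact hAO hmem (Set.mem_biUnion (⟨hξ', hne⟩ : ξ' ∈ s \ {ξ}) (subset_closure rfl))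
  choose! A hA hξA hAs using hO
  -- the compact open to be avoided
  let T : X → X.Opens := fun ξ => W ⊔ ⨆ ξ' ∈ s \ {ξ}, A ξ'
  have hTcoe : ∀ ξ, ((T ξ : X.Opens) : Set X) = (W : Set X) ∪ ⋃ ξ' ∈ s \ {ξ}, (A ξ' : Set X) := by
    intro ξ
    simp [T]
  have hTmem : ∀ ξ x, x ∈ T ξ ↔ x ∈ W ∨ ∃ ξ', (ξ' ∈ s ∧ ξ' ≠ ξ) ∧ x ∈ A ξ' := by
    intro ξ x
    rw [← SetLike.mem_coe, hTcoe]
    simp
  have hT : ∀ ξ, IsCompact (T ξ : Set X) := by
    intro ξ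
    rw [hTcoe]
    exact hW.union ((hs.subset Set.sdiff_subset).isCompact_biUnion
      fun ξ' h => (hA ξ' h.1).isCompact)
  have hK : ∀ ξ ∈ s, ∃ g : Γ(X, A ξ), ξ ∈ X.basicOpen g ∧ ∀ x ∈ A ξ ⊓ T ξ, x ∉ X.basicOpen g := by
    intro ξ hξ
    have := exists_basicOpen_disjoint_of_isCompact (𝟙 X) ξ (hgen ξ hξ) (hA ξ hξ) (hξA ξ hξ)
      (A ξ ⊓ T ξ)
      (QuasiSeparatedSpace.inter_isCompact _ _ (A ξ).isOpen (hA ξ hξ).isCompact (T ξ).isOpen (hT ξ))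
      inf_le_left ?_
    · simpa using this
    · rintro x ⟨-, hxT⟩ hx
      have hx' : x = ξ := hx
      subst hx'
      rcases (hTmem _ _).mp hxT with hxW | ⟨ξ', ⟨hξ', hne⟩, hmem⟩
      · exact hsW x hξ hxW
      · exact hAs ξ' hξ' x hξ (Ne.symm hne) hmem
  choose! g hg1 hg2 using hK
  refine ⟨fun ξ => X.basicOpen (g ξ), fun ξ hξ => ⟨(hA ξ hξ).basicOpen _, hg1 ξ hξ, ?_⟩, ?_⟩
  · rw [disjoint_iff, eq_bot_iff]
    rintro x ⟨hx1, hx2⟩
    exact hg2 ξ hξ x ⟨X.basicOpen_le _ hx1, Or.inl hx2⟩ hx1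
  · intro ξ hξ ξ' hξ' hne
    rw [Function.onFun, disjoint_iff, eq_bot_iff]
    rintro x ⟨hx1, hx2⟩
    refine hg2 ξ hξ x ⟨X.basicOpen_le _ hx1, ?_⟩ hx1
    refine (hTmem _ _).mpr ?_
    exact Or.inr ⟨ξ', ⟨hξ', Ne.symm hne⟩, X.basicOpen_le _ hx2⟩


theorem exists_pairwise_disjoint_affine_nhds (X : Scheme.{u}) [QuasiSeparatedSpace X] {n : ℕ}
    (η : Fin n → X) (hη : ∀ i, closure ({η i} : Set X) ∈ irreducibleComponents (X : Type u))
    (hinj : Function.Injective η) :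
    ∃ U : Fin n → X.Opens, (∀ i, IsAffineOpen (U i) ∧ η i ∈ U i) ∧
      (∀ i j, i ≠ j → Disjoint (U i) (U j)) ∧ IsAffineOpen (⨆ i, U i) := by
  obtain ⟨U, hU, hdisj⟩ := exists_disjoint_affine_nhds X (Set.range η) (Set.finite_range η)
    (by rintro _ ⟨i, rfl⟩; exact hη i) ⊥ (by simp) (by simp)
  have hd : ∀ i j, i ≠ j → Disjoint (U (η i)) (U (η j)) := fun i j hij =>
    hdisj ⟨i, rfl⟩ ⟨j, rfl⟩ (hinj.ne hij)
  refine ⟨fun i => U (η i), fun i => ⟨(hU _ ⟨i, rfl⟩).1, (hU _ ⟨i, rfl⟩).2.1⟩, hd, ?_⟩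
  exact IsAffineOpen.iSup_of_disjoint (fun i => (hU _ ⟨i, rfl⟩).1) (fun i j hij => hd i j hij)

theorem exists_affineOpen_containing_point_and_generic_points (X : Scheme.{u})
    [QuasiSeparatedSpace X] {n : ℕ} (η : Fin n → X)
    (hη : ∀ i, closure ({η i} : Set X) ∈ irreducibleComponents (X : Type u)) (x : X) :
    ∃ U : X.Opens, IsAffineOpen U ∧ x ∈ U ∧ ∀ i, η i ∈ U := by
  obtain ⟨A₀, hA₀, hxA₀, -⟩ := exists_isAffineOpen_mem_and_subset (x := x) (U := ⊤) trivial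
  let s : Set X := Set.range η \ (A₀ : Set X)
  have hs : s.Finite := (Set.finite_range η).subset Set.sdiff_subset
  obtain ⟨U, hU, hdisj⟩ := exists_disjoint_affine_nhds X s hs
    (by rintro _ ⟨⟨i, rfl⟩, -⟩; exact hη i) A₀ hA₀.isCompact (fun ξ hξ => hξ.2)
  have h1 : IsAffineOpen (⨆ ξ ∈ s, U ξ) :=
    IsAffineOpen.biSup_of_disjoint hs (fun ξ hξ => (hU ξ hξ).1) hdisj
  have h2 : Disjoint A₀ (⨆ ξ ∈ s, U ξ) := by
    rw [disjoint_iSup₂_iff]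
    exact fun ξ hξ => (hU ξ hξ).2.2.symm
  refine ⟨A₀ ⊔ ⨆ ξ ∈ s, U ξ, hA₀.sup_of_disjoint h1 h2, Or.inl hxA₀, fun i => ?_⟩
  by_cases hi : η i ∈ A₀
  · exact Or.inl hi
  · refine Or.inr ?_
    have hmem : η i ∈ s := ⟨⟨i, rfl⟩, hi⟩
    exact (le_iSup₂ (f := fun ξ (_ : ξ ∈ s) => U ξ) (η i) hmem) (hU _ hmem).2.1

end Groth.Agent.H5.GF
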